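import Groth.Agent.Picfga.ChiBC
import Groth.Agent.AbVar.K530.PicZero
import Groth.Agent.Dual.H341.CMSch
import Groth.Agent.S4642
import Groth.Agent.Fga.EulerIso
import Groth.Agent.Neron.K531.Defs

/-!
# Euler characteristics of classes of invertible modules, and dimensions of pieces

* `chi f c` for a class `c` on `X/F`, its invariance under extension of the field;
* base change of the pieces of `Comps f`.
-/

set_option autoImplicit false

universe u

open CategoryTheory CategoryTheory.Limits AlgebraicGeometry TopologicalSpace Opposite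
open Groth.Agent Groth.Agent.Grpsch.PicGrp K530.PicZero K531.Defs

namespace K166.Chi

section Chi

variable {F : Type u} [Field F] {X : Scheme.{u}} (f : X ⟶ Spec (CommRingCat.of F))

/-- The Euler characteristic of a class (degrees `≤ 1`). -/
noncomputable def chi : Pic X → ℤ :=
  letI : X.Over (Spec (CommRingCat.of F)) := ⟨f⟩
  Quotient.lift (fun L => FGA.eulerCharLE F X L.1 1)
    (fun _ _ ⟨e⟩ => Groth.Agent.Fga.EulerIso.eulerCharLE_congr F e 1)

theorem chi_mk {L : X.Modules} (hL : PicF.IsInvertible L) :
    chi f (mk L hL) = (letI : X.Over (Spec (CommRingCat.of F)) := ⟨f⟩; FGA.eulerCharLE F X L 1) := rfl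

theorem chi_one : chi f 1 =
    (letI : X.Over (Spec (CommRingCat.of F)) := ⟨f⟩; FGA.eulerCharLE F X (Coh.structureModule X) 1) := rfl

/-- Field extensions do not change the Euler characteristic. -/
theorem chi_pull [QuasiCompact f] [QuasiSeparated f] {F' : Type u} [Field F'] {X' : Scheme.{u}}
    {f' : X' ⟶ Spec (CommRingCat.of F')} {g : X' ⟶ X}
    {s : Spec (CommRingCat.of F') ⟶ Spec (CommRingCat.of F)} (H : IsPullback g f' f s) (c : Pic X) :
    chi f' (pull g c) = chi f c := by
  obtain ⟨L, hL, rfl⟩ := exists_mk c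
  rw [pull_mk, chi_mk, chi_mk]
  let _ : X.Over (Spec (CommRingCat.of F)) := ⟨f⟩
  let _ : X'.Over (Spec (CommRingCat.of F')) := ⟨f'⟩
  have h1 : CompactSpace X := QuasiCompact.compactSpace_of_compactSpace f
  have h2 : QuasiSeparatedSpace X := quasiSeparatedSpace_of_quasiSeparated f
  exact Picfga.ChiBC.eulerCharLE_pullback F X F' X' g s H L (Ega2.QCohLocal.isQCoh_of_isInvertible hL) 1

end Chi

section Dim

/-- The dimension does not change under extension of the base field. -/
theorem dim_of_isPullback {F F' : Type u} [Field F] [Field F'] {X X' : Scheme.{u}}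
    {f : X ⟶ Spec (CommRingCat.of F)} [LocallyOfFiniteType f] {f' : X' ⟶ Spec (CommRingCat.of F')} {g : X' ⟶ X}
    {s : Spec (CommRingCat.of F') ⟶ Spec (CommRingCat.of F)} (H : IsPullback g f' f s) :
    topologicalKrullDim X' = topologicalKrullDim X := by
  obtain ⟨φ, rfl⟩ : ∃ φ, s = Spec.map φ := ⟨_, (Spec.map_preimage s).symm⟩
  let _ : Algebra F F' := φ.hom.toAlgebra
  rw [← S4642.result (K := F') f]
  exact IsHomeomorph.topologicalKrullDim_eq _ (Scheme.homeoOfIso (H.isoPullback)).isHomeomorph

theorem dim_le {T : Type*} [TopologicalSpace T]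
    (hdim : ∀ W ∈ irreducibleComponents T, topologicalKrullDim W = 1) : topologicalKrullDim T ≤ 1 :=
  Dual.H341.CMSch.topologicalKrullDim_le_of_components T 1 hdim

/-- An integral open and closed piece of `X` has dimension one if all components of `X` do. -/
theorem dim_piece {D X : Scheme.{u}} (j : D ⟶ X) [IsOpenImmersion j] [IrreducibleSpace D]
    (hcl : IsClosed (Set.range j)) (hdim : ∀ W ∈ irreducibleComponents (X : Type u), topologicalKrullDim W = 1) :
    topologicalKrullDim D = 1 := by
  have hirr : IsIrreducible (Set.range j) := by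
    rw [← Set.image_univ]
    exact (irreducibleSpace_def _).1 ‹_› |>.image _ j.continuous.continuousOn
  have hop : IsOpen (Set.range j) := j.isOpenEmbedding.isOpen_range
  have hmem : Set.range j ∈ irreducibleComponents (X : Type u) := by
    refine ⟨hirr, fun W hW hle x hx => ?_⟩
    by_contra hx'
    have := hW.2 _ _ hop hcl.isOpen_compl ?_ ⟨x, hx, hx'⟩
    · obtain ⟨z, -, h1, h2⟩ := this
      exact h2 h1
    · obtain ⟨z, hz⟩ := hirr.1
      exact ⟨z, hle hz, hz⟩
  rw [← hdim _ hmem]
  exact IsHomeomorph.topologicalKrullDim_eq _ (j.isOpenEmbedding.isEmbedding.toHomeomorph).isHomeomorph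

end Dim

section Pieces

variable {L : Type u} [Field L] {X : Scheme.{u}} {f : X ⟶ Spec (CommRingCat.of L)} (h : Comps f)

include h

theorem isClosed_range (a : h.ι) : IsClosed (Set.range (h.j a)) := by
  have := h.isOpenImmersion
  have heq : (Set.range (h.j a))ᶜ = ⋃ (b : {b // b ≠ a}), Set.range (h.j b.1) := by
    ext x
    simp only [Set.mem_compl_iff, Set.mem_iUnion]
    constructor
    · intro hx
      obtain ⟨b, hb⟩ := h.cover x
      exact ⟨⟨b, fun e => hx (e ▸ hb)⟩, hb⟩
    · rintro ⟨b, hb⟩ hx
      exact Set.disjoint_left.1 (h.disjoint b.1 a b.2) hb hx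
  rw [← isOpen_compl_iff, heq]
  exact isOpen_iUnion fun b => (h.j b.1).isOpenEmbedding.isOpen_range

theorem isClosedImmersion (a : h.ι) : IsClosedImmersion (h.j a) := by
  have := h.isOpenImmersion a
  exact IsClosedImmersion.of_isPreimmersion _ (isClosed_range h a)

theorem isIntegral (a : h.ι) : IsIntegral (h.D a) := by
  have := h.geometricallyIntegral a
  exact GeometricallyIntegral.isIntegral_of_subsingleton (h.j a ≫ f)

end Pieces

end K166.Chi
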