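import Groth.Agent.Neron.K166.Chi
import Groth.Agent.Neron.K722.DivDeg
import Groth.Agent.Neron.K226.DivInt
import Groth.Agent.Neron.K449.Twist
import Groth.Agent.Neron.K434.GlueDiv
import Groth.Agent.Neron.K861.EulerMul
import Groth.Agent.Fga.JacFactor
import Groth.Prelude.Def_HilbD

/-!
# Divisors representing `c(H)` for all algebraically trivial `c` (S15952, node DV)
-/

set_option autoImplicit false

universe u

open CategoryTheory CategoryTheory.Limits AlgebraicGeometry TopologicalSpace Opposite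
open Groth.Agent Groth.Agent.Grpsch.PicGrp Groth.Agent.Fga.RigGrp Groth.Agent.Fga.JacFactor K530.PicZero K531.Defs

namespace K166.DivAsm

open K166.Chi

/-- The degree of a finite Cartier divisor is nonnegative. -/
theorem deg_nonneg {F : Type u} [Field F] {X : Scheme.{u}} (f : X ⟶ Spec (CommRingCat.of F)) [IsProper f]
    (hdim : topologicalKrullDim X ≤ 1) (I : X.IdealSheafData) (hE : BlowUp.IsEffCartierIdeal I)
    [IsFinite (I.subschemeι ≫ f)] {M : X.Modules} (hM : PicF.IsInvertible M) (h : mk M hM = dcl I hE) :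
    0 ≤ chi f 1 - chi f (mk M hM) := by
  let _ : X.Over (Spec (CommRingCat.of F)) := ⟨f⟩
  have : IsProper (X ↘ Spec (CommRingCat.of F)) := ‹IsProper f›
  let _ : I.subscheme.Over (Spec (CommRingCat.of F)) := ⟨I.subschemeι ≫ f⟩
  have h2 := K722.DivDeg.eulerCharLE_cut F 1 (X := X) (by exact_mod_cast hdim) I rfl
  have h3 := K722.DivDeg.eulerCharLE_of_isFinite F (I.subschemeι ≫ f) 1
  rw [h]
  have h4 : chi f 1 = chi f (dcl I hE) + FGA.eulerCharLE F I.subscheme (Coh.structureModule I.subscheme) 1 := h2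
  rw [h4, add_sub_cancel_left]
  refine le_of_le_of_eq ?_ h3.symm
  exact Int.natCast_nonneg _

section Base

variable {L : Type u} [Field L] {X : Scheme.{u}} {f : X ⟶ Spec (CommRingCat.of L)} (h : Comps f)
  {F : Type u} [Field F] (s : Spec (CommRingCat.of F) ⟶ Spec (CommRingCat.of L))

/-- The base change of a piece. -/
noncomputable abbrev DF (a : h.ι) : Scheme.{u} := pullback (h.j a ≫ f) s

/-- The inclusion of the base change of a piece. -/
noncomputable def jF (a : h.ι) : DF h s a ⟶ pullback f s :=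
  pullback.map (h.j a ≫ f) s f s (h.j a) (𝟙 _) (𝟙 _) (by rw [Category.comp_id]) (by rw [Category.comp_id, Category.id_comp])

theorem jF_fst (a : h.ι) : jF h s a ≫ pullback.fst f s = pullback.fst (h.j a ≫ f) s ≫ h.j a := pullback.lift_fst _ _ _

theorem jF_snd (a : h.ι) : jF h s a ≫ pullback.snd f s = pullback.snd (h.j a ≫ f) s :=
  (pullback.lift_snd _ _ _).trans (Category.comp_id _)

theorem isPullback_jF (a : h.ι) : IsPullback (jF h s a) (pullback.fst (h.j a ≫ f) s) (pullback.fst f s) (h.j a) := by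
  refine IsPullback.of_right (h₁₂ := pullback.snd f s) (v₁₃ := s) (h₂₂ := f) ?_ (jF_fst h s a)
    (IsPullback.of_hasPullback f s).flip
  rw [jF_snd]
  exact (IsPullback.of_hasPullback (h.j a ≫ f) s).flip

theorem isOpenImmersion_jF (a : h.ι) : IsOpenImmersion (jF h s a) :=
  MorphismProperty.of_isPullback (isPullback_jF h s a).flip (h.isOpenImmersion a)

theorem isClosedImmersion_jF (a : h.ι) : IsClosedImmersion (jF h s a) :=
  MorphismProperty.of_isPullback (isPullback_jF h s a).flip (isClosedImmersion h a)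

theorem range_jF (a : h.ι) : Set.range (jF h s a) = pullback.fst f s ⁻¹' Set.range (h.j a) := by
  have H := isPullback_jF h s a
  have h1 : Set.range (H.isoPullback.hom ≫ pullback.fst (pullback.fst f s) (h.j a)) =
      Set.range (pullback.fst (pullback.fst f s) (h.j a)) := by
    ext z
    constructor
    · rintro ⟨w, rfl⟩
      exact ⟨H.isoPullback.hom w, by rw [Scheme.Hom.comp_apply]⟩
    · rintro ⟨w, rfl⟩
      obtain ⟨w', rfl⟩ := (H.isoPullback.hom).surjective w
      exact ⟨w', by rw [Scheme.Hom.comp_apply]⟩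
  rw [H.isoPullback_hom_fst] at h1
  rw [h1, Scheme.Pullback.range_fst]

theorem disjoint_jF (a b : h.ι) (hab : a ≠ b) : Disjoint (Set.range (jF h s a)) (Set.range (jF h s b)) := by
  rw [range_jF, range_jF]
  exact (h.disjoint a b hab).preimage _

theorem cover_jF (x : ↥(pullback f s)) : ∃ a, x ∈ Set.range (jF h s a) := by
  obtain ⟨a, ha⟩ := h.cover (pullback.fst f s x)
  exact ⟨a, by rw [range_jF]; exact ha⟩

theorem isIntegral_DF (a : h.ι) : IsIntegral (DF h s a) := by
  have := h.geometricallyIntegral a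
  have : GeometricallyIntegral (pullback.snd (h.j a ≫ f) s) := inferInstance
  exact GeometricallyIntegral.isIntegral_of_subsingleton (pullback.snd (h.j a ≫ f) s)

theorem isProper_comp [IsProper f] (a : h.ι) : IsProper (h.j a ≫ f) := by
  have := isClosedImmersion h a
  infer_instance

end Base

section Main

variable {L : Type u} [Field L] {X : Scheme.{u}} (f : X ⟶ Spec (CommRingCat.of L)) [IsProper f] (h : Comps f)
    (hdim : ∀ W ∈ irreducibleComponents (X : Type u), topologicalKrullDim W = 1)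
  {F : Type u} [Field F] (s : Spec (CommRingCat.of F) ⟶ Spec (CommRingCat.of L))

include hdim in
theorem exists_divisor_field {N : X.Modules} (hN : PicF.IsInvertible N)
    (hpos : ∀ a, 0 < chi (h.j a ≫ f) (pull (h.j a) (mk N hN)))
    (c : Pic (pullback f s)) (hc : FibZero (pullback.snd f s) c) :
    ∃ (J : (pullback f s).IdealSheafData) (hJ : BlowUp.IsEffCartierIdeal J),
      dcl J hJ = (c * pull (pullback.fst f s) (mk N hN))⁻¹ ∧ IsFinite (J.subschemeι ≫ pullback.snd f s) := by
  have hfin := h.finite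
  have hop := isOpenImmersion_jF h s
  have hpr := isProper_comp h
  have hint := isIntegral_DF h s
  have key : ∀ a, ∃ (I : (DF h s a).IdealSheafData) (hE : BlowUp.IsEffCartierIdeal I),
      dcl I hE = pull (jF h s a) (c * pull (pullback.fst f s) (mk N hN))⁻¹ ∧
        IsFinite (I.subschemeι ≫ pullback.snd (h.j a ≫ f) s) := by
    intro a
    have hPB : IsPullback (pullback.fst (h.j a ≫ f) s) (pullback.snd (h.j a ≫ f) s) (h.j a ≫ f) s :=
      IsPullback.of_hasPullback _ _
    have := isIntegral h a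
    have hd1 : topologicalKrullDim (DF h s a) = 1 := by
      rw [dim_of_isPullback hPB]
      have := h.isOpenImmersion a
      exact dim_piece (h.j a) (isClosed_range h a) hdim
    obtain ⟨M, hM, hMc⟩ := exists_mk (pull (jF h s a) (c * pull (pullback.fst f s) (mk N hN)))
    have hpull : pull (jF h s a) (pull (pullback.fst f s) (mk N hN)) =
        pull (pullback.fst (h.j a ≫ f) s) (pull (h.j a) (mk N hN)) := by
      rw [← pull_comp, ← pull_comp, jF_fst]
    have hca : FibZero (pullback.snd (h.j a ≫ f) s) (pull (jF h s a) c) :=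
      FibZero.pull _ (𝟙 _) (by rw [jF_snd, Category.comp_id]) hc
    obtain ⟨N', hN', hNc⟩ := exists_mk (pull (pullback.fst (h.j a ≫ f) s) (pull (h.j a) (mk N hN)))
    have h1 := K861.EulerMul.euler_mul (pullback.snd (h.j a ≫ f) s) hd1.le (pull (jF h s a) c) hca hM hN' (by
      rw [← hMc, map_mul, hpull, hNc])
    have h2 : 0 < chi (pullback.snd (h.j a ≫ f) s) (mk N' hN') := by
      rw [← hNc, chi_pull (h.j a ≫ f) hPB]
      exact hpos a
    obtain ⟨I, hE, hI, hIf⟩ := K226.DivInt.exists_divisor_integral (pullback.snd (h.j a ≫ f) s) hd1 hM (by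
      rw [h1]
      exact h2)
    refine ⟨I, hE, ?_, hIf⟩
    rw [hI, ← hMc, map_inv]
  choose I hE hI hIf using key
  obtain ⟨J, hJ, h1, -, h3⟩ := K434.GlueDiv.exists_glue_divisor (pullback.snd f s) (DF h s) (jF h s) (disjoint_jF h s)
    (cover_jF h s) I hE _ hI (fun a => by rw [jF_snd]; exact hIf a)
  exact ⟨J, hJ, h1, h3⟩

include hdim in
theorem exists_divisor_deg {N : X.Modules} (hN : PicF.IsInvertible N)
    (hpos : ∀ a, 0 < chi (h.j a ≫ f) (pull (h.j a) (mk N hN)))
    (c : Pic (pullback f s)) (hc : FibZero (pullback.snd f s) c) :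
    ∃ (J : (pullback f s).IdealSheafData) (hJ : BlowUp.IsEffCartierIdeal J),
      dcl J hJ = (c * pull (pullback.fst f s) (mk N hN))⁻¹ ∧
      0 ≤ chi f 1 - chi f (mk N hN)⁻¹ ∧
      ∀ d : ℕ, (d : ℤ) = chi f 1 - chi f (mk N hN)⁻¹ →
        Mor2.IsFinLocFreeOfDeg d (J.subschemeι ≫ pullback.snd f s) := by
  obtain ⟨J, hJ, h1, h2⟩ := exists_divisor_field f h hdim s hN hpos c hc
  have hPB : IsPullback (pullback.fst f s) (pullback.snd f s) f s := IsPullback.of_hasPullback _ _
  have hd : topologicalKrullDim ↥(pullback f s) ≤ 1 := by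
    rw [dim_of_isPullback hPB]
    exact dim_le hdim
  obtain ⟨M, hM, hMc⟩ := exists_mk (c * pull (pullback.fst f s) (mk N hN))⁻¹
  obtain ⟨M', hM', hMc'⟩ := exists_mk (pull (pullback.fst f s) (mk N hN)⁻¹)
  have e1 := K861.EulerMul.euler_mul (pullback.snd f s) hd c⁻¹ hc.inv hM hM' (by
    rw [← hMc, ← hMc', mul_inv, map_inv])
  have e2 : chi (pullback.snd f s) (mk M' hM') = chi f (mk N hN)⁻¹ := by
    rw [← hMc', chi_pull f hPB]
  have e3 : chi (pullback.snd f s) 1 = chi f 1 := by
    rw [← chi_pull f hPB, map_one]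
  have e4 : chi (pullback.snd f s) (mk M hM) = chi f (mk N hN)⁻¹ := e1.trans e2
  refine ⟨J, hJ, h1, ?_, fun d hd' => ?_⟩
  · have := deg_nonneg (pullback.snd f s) hd J hJ hM (by rw [h1, hMc])
    rw [← e3, ← e4]
    exact this
  · refine K722.DivDeg.deg_eq (pullback.snd f s) hd J hJ hM (by rw [h1, hMc]) d ?_
    rw [hd', ← e3, ← e4]
    rfl

end Main

/-- (DV) -/
theorem exists_divisor {L : Type u} [Field L] {X : Scheme.{u}} (f : X ⟶ Spec (CommRingCat.of L)) [IsProper f] (h : Comps f)
    (hdim : ∀ W ∈ irreducibleComponents (X : Type u), topologicalKrullDim W = 1) {n : ℕ}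
    (i : X ⟶ CohB1.ProjSpaceOver n (Spec (CommRingCat.of L))) [IsClosedImmersion i]
    (hi : i ≫ CohB1.ProjSpaceOver.toBase n _ = f) :
    ∃ (d : ℕ) (H : Pic X), ∀ {F : Type u} [Field F] (s : Spec (CommRingCat.of F) ⟶ Spec (CommRingCat.of L))
      (c : Pic (PicF.XT f (Over.mk s))), FibZero (PicF.XTproj f (Over.mk s)) c →
      ∃ (E : HilbD.Obj f d (Over.mk s)) (hE : BlowUp.IsEffCartierIdeal E.1),
        dcl E.1 hE = (c * pull (pullback.fst f (Over.mk s).hom) H)⁻¹ := by
  obtain ⟨N, hN, hpos⟩ := K449.Twist.exists_twist f h hdim i hi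
  refine ⟨(chi f 1 - chi f (mk N hN)⁻¹).toNat, mk N hN, fun {F} _ s c hc => ?_⟩
  obtain ⟨J, hJ, h1, h2, h3⟩ := exists_divisor_deg f h hdim s hN (fun a => hpos a) c hc
  exact ⟨⟨J, h3 _ (Int.toNat_of_nonneg h2)⟩, hJ, h1⟩

end K166.DivAsm
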